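import Mathlib
import Groth.Prelude.Def_KFlatSite
import Groth.Agent.Lib.Helper5.Misc.KFlatGen
import Groth.Agent.Lib.Helper5.Misc.StupidTrunc

set_option autoImplicit false
set_option linter.unusedSectionVars false
set_option linter.unusedVariables false
set_option linter.style.haveILetI false
universe u
open CategoryTheory CategoryTheory.Limits MonoidalCategory

namespace Groth.Agent.Lib.Helper5.KFlat

open Groth.Agent.Lib.Helper5.Misc.KFlatGen Groth.Agent.Lib.Helper5.Misc.StupidTrunc

variable {R : Type u} [CommRing R]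

instance hasExactColimitsOfShape_nat : HasExactColimitsOfShape ℕ (ModuleCat.{u} R) := by
  haveI : IsFiltered (ULiftHom.{u} (ULift.{u} ℕ)) :=
    IsFiltered.of_equivalence (ULiftHomULiftCategory.equiv.{u, u} ℕ)
  exact HasExactColimitsOfShape.of_domain_equivalence _ (ULiftHomULiftCategory.equiv.{u, u} ℕ).symm

variable (R) in
/-- the tensor bifunctor of modules -/
abbrev T : ModuleCat.{u} R ⥤ ModuleCat.{u} R ⥤ ModuleCat.{u} R := curriedTensor (ModuleCat.{u} R)

/-- acyclicity -/
abbrev Acyc (M : DRing.Cx R) : Prop := ∀ i : ℤ, IsZero (M.homology i)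

theorem isKFlat_of_iso {K K' : DRing.Cx R} (e : K ≅ K') (h : DRing.IsKFlat R K) :
    DRing.IsKFlat R K' := by
  intro F hF i
  exact acyclic_of_iso ((tensorLeft F).mapIso e) (h F hF) i

/-! ### tensoring short exact sequences of modules -/

theorem shortExact_tensorLeft (S : ShortComplex (ModuleCat.{u} R)) (hS : S.ShortExact)
    (h3 : Module.Flat R S.X₃) (N : ModuleCat.{u} R) : (S.map ((T R).obj N)).ShortExact := by
  haveI := hS.mono_f
  haveI := hS.epi_g
  haveI : (S.map ((T R).obj N)).HasHomology :=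
    (inferInstance : CategoryWithHomology (ModuleCat.{u} R)).hasHomology _
  have hex : (S.map ((T R).obj N)).Exact :=
    hS.exact.map_of_epi_of_preservesCokernel ((T R).obj N) inferInstance inferInstance
  haveI : Mono (S.map ((T R).obj N)).f := by
    rw [ModuleCat.mono_iff_injective]
    exact LinearMap.lTensor_injective_of_exact_of_flat S.g.hom
      ((ModuleCat.epi_iff_surjective _).1 inferInstance) S.f.hom
      ((ModuleCat.mono_iff_injective _).1 inferInstance)
      ((ShortComplex.ShortExact.moduleCat_exact_iff_function_exact S).1 hS.exact) N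
  haveI : Epi (S.map ((T R).obj N)).g := by
    rw [ModuleCat.epi_iff_surjective]
    exact LinearMap.lTensor_surjective N ((ModuleCat.epi_iff_surjective _).1 inferInstance)
  exact ShortComplex.ShortExact.mk hex

/-- the short exact sequence of total complexes -/
theorem shortExact_tensor (S : ShortComplex (DRing.Cx R)) (hS : S.ShortExact)
    (h3 : ∀ n : ℤ, Module.Flat R (S.X₃.X n)) (F : DRing.Cx R) :
    ∃ (z : (F ◁ S.f) ≫ (F ◁ S.g) = 0), (ShortComplex.mk _ _ z).ShortExact := by
  refine shortExact_tot (T R) F S (fun p q => ?_)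
  exact shortExact_tensorLeft _
    ((HomologicalComplex.shortExact_iff_degreewise_shortExact S).1 hS q) (h3 q) (F.X p)

/-- the short exact sequence of total complexes attached to a mapping cone -/
theorem shortExact_tensor_cone {K₁ K₂ : DRing.Cx R} (φ : K₁ ⟶ K₂) (F : DRing.Cx R) :
    ∃ (z : (F ◁ (CochainComplex.mappingCone.triangleRotateShortComplex φ).f) ≫
        (F ◁ (CochainComplex.mappingCone.triangleRotateShortComplex φ).g) = 0),
      (ShortComplex.mk _ _ z).ShortExact := by
  refine shortExact_tot (T R) F _ (fun p q => ?_)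
  exact ((CochainComplex.mappingCone.triangleRotateShortComplexSplitting φ q).map
    ((T R).obj (F.X p))).shortExact

theorem shift_iff (F K : DRing.Cx R) (y : ℤ) : Acyc (F ⊗ K⟦y⟧) ↔ Acyc (F ⊗ K) :=
  tot_shift₂_acyclic_iff (T R) F K y

theorem isKFlat_cone_two_of_three {K₁ K₂ : DRing.Cx R} (φ : K₁ ⟶ K₂) :
    (DRing.IsKFlat R K₁ → DRing.IsKFlat R K₂ → DRing.IsKFlat R (CochainComplex.mappingCone φ)) ∧
    (DRing.IsKFlat R K₁ → DRing.IsKFlat R (CochainComplex.mappingCone φ) → DRing.IsKFlat R K₂) ∧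
    (DRing.IsKFlat R K₂ → DRing.IsKFlat R (CochainComplex.mappingCone φ) → DRing.IsKFlat R K₁) := by
  refine ⟨fun k1 k2 F hF i => ?_, fun k1 k3 F hF i => ?_, fun k2 k3 F hF i => ?_⟩
  · obtain ⟨z, hz⟩ := shortExact_tensor_cone φ F
    exact acyclic_X₂ hz (k2 F hF) ((shift_iff F K₁ 1).2 (k1 F hF)) i
  · obtain ⟨z, hz⟩ := shortExact_tensor_cone φ F
    exact acyclic_X₁ hz (k3 F hF) ((shift_iff F K₁ 1).2 (k1 F hF)) i
  · obtain ⟨z, hz⟩ := shortExact_tensor_cone φ F
    exact (shift_iff F K₁ 1).1 (acyclic_X₃ hz (k2 F hF) (k3 F hF)) i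

theorem isKFlat_shift {K : DRing.Cx R} (h : DRing.IsKFlat R K) (y : ℤ) : DRing.IsKFlat R (K⟦y⟧) :=
  fun F hF => (shift_iff F K y).2 (h F hF)

/-- short exact sequences with flat third term: two out of three -/
theorem isKFlat_ses (S : ShortComplex (DRing.Cx R)) (hS : S.ShortExact)
    (h3 : ∀ n : ℤ, Module.Flat R (S.X₃.X n)) :
    (DRing.IsKFlat R S.X₁ → DRing.IsKFlat R S.X₂ → DRing.IsKFlat R S.X₃) ∧
    (DRing.IsKFlat R S.X₁ → DRing.IsKFlat R S.X₃ → DRing.IsKFlat R S.X₂) ∧
    (DRing.IsKFlat R S.X₂ → DRing.IsKFlat R S.X₃ → DRing.IsKFlat R S.X₁) := by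
  refine ⟨fun k1 k2 F hF i => ?_, fun k1 k3 F hF i => ?_, fun k2 k3 F hF i => ?_⟩
  · obtain ⟨z, hz⟩ := shortExact_tensor S hS h3 F
    exact acyclic_X₃ hz (k1 F hF) (k2 F hF) i
  · obtain ⟨z, hz⟩ := shortExact_tensor S hS h3 F
    exact acyclic_X₂ hz (k1 F hF) (k3 F hF) i
  · obtain ⟨z, hz⟩ := shortExact_tensor S hS h3 F
    exact acyclic_X₁ hz (k2 F hF) (k3 F hF) i

/-! ### colimits -/

theorem isKFlat_of_isColimit {J : Type*} [Category J] [HasColimitsOfShape J (ModuleCat.{u} R)]
    [HasExactColimitsOfShape J (ModuleCat.{u} R)]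
    [∀ X : ModuleCat.{u} R, PreservesColimitsOfShape J ((T R).obj X)]
    {D : J ⥤ DRing.Cx R} (c : Cocone D) (hc : IsColimit c)
    (hD : ∀ j, DRing.IsKFlat R (D.obj j)) : DRing.IsKFlat R c.pt := by
  intro F hF i
  exact acyclic_of_isColimit (D ⋙ tensorLeft F) ((tensorLeft F).mapCocone c)
    (isColimitTot (T R) F c hc) (fun j i => hD j F hF i) i

/-! ### complexes concentrated in one degree -/

theorem isKFlat_of_concentrated (Q : DRing.Cx R) (a : ℤ)
    (hz : ∀ n, n ≠ a → IsZero (Q.X n)) (hf : Module.Flat R (Q.X a)) : DRing.IsKFlat R Q := by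
  intro F hF n
  refine acyclic_concentrated (T R) F Q a hz (fun p => ?_) n
  have h1 : (F.sc' (p - 1) p (p + 1)).Exact :=
    (F.exactAt_iff' (p - 1) p (p + 1) (by simp) (by simp)).1
      ((HomologicalComplex.exactAt_iff_isZero_homology _ _).2 (hF p))
  exact Module.Flat.rTensor_shortComplex_exact (Q.X a) _ h1

end Groth.Agent.Lib.Helper5.KFlat
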