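import Mathlib
import Groth.Agent.Lib.Helper5.KFlat.Basic

set_option autoImplicit false
set_option linter.unusedSectionVars false
set_option linter.unusedVariables false
set_option linter.style.haveILetI false
universe u
open CategoryTheory CategoryTheory.Limits MonoidalCategory

namespace Groth.Agent.Lib.Helper5.KFlat

open Groth.Agent.Lib.Helper5.Misc.KFlatGen Groth.Agent.Lib.Helper5.Misc.StupidTrunc

variable {R : Type u} [CommRing R]

lemma flat_of_iso {M N : ModuleCat.{u} R} (e : M ≅ N) (h : Module.Flat R M) : Module.Flat R N :=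
  Module.Flat.of_linearEquiv e.symm.toLinearEquiv

lemma flat_of_isZero {M : ModuleCat.{u} R} (h : IsZero M) : Module.Flat R M := by
  haveI := ModuleCat.subsingleton_of_isZero h
  infer_instance

lemma flat_sigmaGE_X (K : DRing.Cx R) (hflat : ∀ n : ℤ, Module.Flat R (K.X n)) (a n : ℤ) :
    Module.Flat R ((sigmaGE K a).X n) := by
  by_cases h : a ≤ n
  · exact flat_of_iso (@asIso _ _ _ _ (tι K a n) (isIso_tι K h)).symm (hflat n)
  · exact flat_of_isZero (isZero_tX K h)

theorem isKFlat_sigmaGE (K : DRing.Cx R) (b : ℤ) [K.IsStrictlyLE b]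
    (hflat : ∀ n : ℤ, Module.Flat R (K.X n)) (m : ℕ) :
    DRing.IsKFlat R (sigmaGE K (b - m)) := by
  induction m with
  | zero =>
    refine isKFlat_of_concentrated _ (b - (0 : ℕ)) (fun n hn => ?_) (flat_sigmaGE_X K hflat _ _)
    by_cases h : b - ((0 : ℕ) : ℤ) ≤ n
    · have hn' : b < n := by
        have : b - ((0 : ℕ) : ℤ) = b := by simp
        omega
      exact IsZero.of_iso (K.isZero_of_isStrictlyLE b n hn')
        (@asIso _ _ _ _ (tι K (b - ((0 : ℕ) : ℤ)) n) (isIso_tι K h))
    · exact isZero_tX K h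
  | succ m ih =>
    have e : b - ((m + 1 : ℕ) : ℤ) + 1 = b - (m : ℤ) := by push_cast; ring
    have hS := quotSC_shortExact K (b - ((m + 1 : ℕ) : ℤ))
    have h3 : ∀ n : ℤ, Module.Flat R ((quotSC K (b - ((m + 1 : ℕ) : ℤ))).X₃.X n) := by
      intro n
      by_cases hn : n = b - ((m + 1 : ℕ) : ℤ)
      · subst hn
        exact flat_of_iso (quotSCX₃Iso K _).symm (hflat _)
      · exact flat_of_isZero (isZero_quotSC_X₃ K _ n hn)
    have hQ : DRing.IsKFlat R (quotSC K (b - ((m + 1 : ℕ) : ℤ))).X₃ :=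
      isKFlat_of_concentrated _ (b - ((m + 1 : ℕ) : ℤ))
        (fun n hn => isZero_quotSC_X₃ K _ n hn) (h3 _)
    have h1 : DRing.IsKFlat R (quotSC K (b - ((m + 1 : ℕ) : ℤ))).X₁ := by
      show DRing.IsKFlat R (sigmaGE K (b - ((m + 1 : ℕ) : ℤ) + 1))
      rw [e]
      exact ih
    exact (isKFlat_ses _ hS h3).2.1 h1 hQ

theorem isKFlat_of_bounded_above (K : DRing.Cx R) (b : ℤ)
    (hb : ∀ i : ℤ, b < i → IsZero (K.X i)) (hflat : ∀ n : ℤ, Module.Flat R (K.X n)) :
    DRing.IsKFlat R K := by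
  haveI : K.IsStrictlyLE b := (CochainComplex.isStrictlyLE_iff K b).2 hb
  exact isKFlat_of_isColimit (seqCocone K b) (seqIsColimit K b)
    (fun m => isKFlat_sigmaGE K b hflat m)

/-! ### homotopy invariance -/

theorem isKFlat_of_homotopyEquiv {K K' : DRing.Cx R} (e : HomotopyEquiv K K')
    (h : DRing.IsKFlat R K) : DRing.IsKFlat R K' := by
  intro F hF i
  have e' : HomotopyEquiv (F ⊗ K) (F ⊗ K') :=
    { hom := F ◁ e.hom
      inv := F ◁ e.inv
      homotopyHomInvId := by
        have H : Homotopy (F ◁ (e.hom ≫ e.inv)) (F ◁ 𝟙 K) :=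
          HomologicalComplex.mapBifunctorMapHomotopy₂ (𝟙 F) e.homotopyHomInvId (T R)
            (ComplexShape.up ℤ)
        exact (Homotopy.ofEq (MonoidalCategory.whiskerLeft_comp _ _ _).symm).trans
          (H.trans (Homotopy.ofEq (MonoidalCategory.whiskerLeft_id _ _)))
      homotopyInvHomId := by
        have H : Homotopy (F ◁ (e.inv ≫ e.hom)) (F ◁ 𝟙 K') :=
          HomologicalComplex.mapBifunctorMapHomotopy₂ (𝟙 F) e.homotopyInvHomId (T R)
            (ComplexShape.up ℤ)
        exact (Homotopy.ofEq (MonoidalCategory.whiskerLeft_comp _ _ _).symm).trans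
          (H.trans (Homotopy.ofEq (MonoidalCategory.whiskerLeft_id _ _))) }
  exact IsZero.of_iso (h F hF i) (e'.toHomologyIso i).symm

end Groth.Agent.Lib.Helper5.KFlat
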