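import Mathlib
import Groth.Agent.Lib.Helper5.KFlat.Bdd
import Groth.Agent.Lib.Helper5.TorAmp.FlatAcyc

set_option autoImplicit false
set_option linter.unusedSectionVars false
set_option linter.unusedVariables false
set_option linter.style.haveILetI false
universe v u
open CategoryTheory CategoryTheory.Limits MonoidalCategory

namespace Groth.Agent.Lib.Helper5.KFlat

open Groth.Agent.Lib.Helper5.Misc.KFlatGen

section Tot₁

open HomologicalComplex

variable {A : Type u} [Category.{v} A] [Abelian A]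
  (T : A ⥤ A ⥤ A) [T.PreservesZeroMorphisms] [∀ X, (T.obj X).PreservesZeroMorphisms]
  [∀ (K₁ K₂ : CochainComplex A ℤ), HasMapBifunctor K₁ K₂ T (ComplexShape.up ℤ)]
  (K : CochainComplex A ℤ) (S : ShortComplex (CochainComplex A ℤ))
  [∀ n : ℤ, HasColimitsOfShape
    (Discrete {i : ℤ × ℤ // ComplexShape.π (ComplexShape.up ℤ) (ComplexShape.up ℤ)
      (ComplexShape.up ℤ) i = n}) A]
  [∀ n : ℤ, HasExactColimitsOfShape
    (Discrete {i : ℤ × ℤ // ComplexShape.π (ComplexShape.up ℤ) (ComplexShape.up ℤ)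
      (ComplexShape.up ℤ) i = n}) A]
  (hS : ∀ p q : ℤ, ((S.map (HomologicalComplex.eval A _ p)).map (T.flip.obj (K.X q))).ShortExact)

include hS in
lemma shortExact_tot_degree₁ (n : ℤ) :
    ∃ (z : (mapBifunctorMap S.f (𝟙 K) T (ComplexShape.up ℤ)).f n ≫
        (mapBifunctorMap S.g (𝟙 K) T (ComplexShape.up ℤ)).f n = 0),
      (ShortComplex.mk _ _ z).ShortExact := by
  refine shortExact_coprod
    (I := {i : ℤ × ℤ // ComplexShape.π (ComplexShape.up ℤ) (ComplexShape.up ℤ)
      (ComplexShape.up ℤ) i = n})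
    (fun i => (T.map (S.f.f i.1.1)).app (K.X i.1.2))
    (fun i => (T.map (S.g.f i.1.1)).app (K.X i.1.2))
    (fun i => ((S.map (HomologicalComplex.eval A _ i.1.1)).map (T.flip.obj (K.X i.1.2))).zero)
    (fun i => hS i.1.1 i.1.2)
    ((((T.mapBifunctorHomologicalComplex _ _).obj S.X₁).obj K).toGradedObject.isColimitCofanMapObj _ n)
    ((((T.mapBifunctorHomologicalComplex _ _).obj S.X₂).obj K).toGradedObject.isColimitCofanMapObj _ n)
    ((((T.mapBifunctorHomologicalComplex _ _).obj S.X₃).obj K).toGradedObject.isColimitCofanMapObj _ n)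
    _ _ ?_ ?_
  · rintro ⟨⟨p, q⟩, h⟩
    have := ι_mapBifunctorMap S.f (𝟙 K) T (ComplexShape.up ℤ) p q n h
    rw [HomologicalComplex.id_f, CategoryTheory.Functor.map_id, Category.id_comp] at this
    exact this
  · rintro ⟨⟨p, q⟩, h⟩
    have := ι_mapBifunctorMap S.g (𝟙 K) T (ComplexShape.up ℤ) p q n h
    rw [HomologicalComplex.id_f, CategoryTheory.Functor.map_id, Category.id_comp] at this
    exact this

include hS in
theorem shortExact_tot₁ :
    ∃ (z : mapBifunctorMap S.f (𝟙 K) T (ComplexShape.up ℤ) ≫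
        mapBifunctorMap S.g (𝟙 K) T (ComplexShape.up ℤ) = 0),
      (ShortComplex.mk _ _ z).ShortExact := by
  have z : mapBifunctorMap S.f (𝟙 K) T (ComplexShape.up ℤ) ≫
        mapBifunctorMap S.g (𝟙 K) T (ComplexShape.up ℤ) = 0 := by
    ext n : 1
    exact (shortExact_tot_degree₁ T K S hS n).choose
  refine ⟨z, HomologicalComplex.shortExact_of_degreewise_shortExact _ (fun n => ?_)⟩
  exact (shortExact_tot_degree₁ T K S hS n).choose_spec

end Tot₁

variable {R : Type u} [CommRing R]

attribute [local instance] HasDerivedCategory.standard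

/-- the short exact sequence of total complexes attached to a mapping cone in the first variable -/
theorem shortExact_cone_tensor {L₁ L₂ : DRing.Cx R} (φ : L₁ ⟶ L₂) (K : DRing.Cx R) :
    ∃ (z : ((CochainComplex.mappingCone.triangleRotateShortComplex φ).f ▷ K) ≫
        ((CochainComplex.mappingCone.triangleRotateShortComplex φ).g ▷ K) = 0),
      (ShortComplex.mk _ _ z).ShortExact := by
  refine shortExact_tot₁ (T R) K _ (fun p q => ?_)
  exact ((CochainComplex.mappingCone.triangleRotateShortComplexSplitting φ p).map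
    ((T R).flip.obj (K.X q))).shortExact

section Delta

variable {C : Type*} [Category C] [Abelian C] {S : ShortComplex (CochainComplex C ℤ)}
  (hS : S.ShortExact)

include hS in
lemma isIso_δ_of_acyclic (h2 : ∀ i, IsZero (S.X₂.homology i)) (i j : ℤ) (hij : i + 1 = j) :
    IsIso (hS.δ i j hij) := by
  haveI : Mono (hS.δ i j hij) :=
    (hS.homology_exact₃ i j hij).mono_g ((h2 i).eq_of_src _ _)
  haveI : Epi (hS.δ i j hij) :=
    (hS.homology_exact₁ i j hij).epi_f ((h2 j).eq_of_tgt _ _)
  exact isIso_of_mono_of_epi _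

end Delta

/-- tensoring with a K-flat complex preserves quasi-isomorphisms -/
theorem quasiIso_whiskerRight {K : DRing.Cx R} (hK : DRing.IsKFlat R K) {L₁ L₂ : DRing.Cx R}
    (f : L₁ ⟶ L₂) (hf : QuasiIso f) : QuasiIso (f ▷ K) := by
  obtain ⟨z₁, h₁⟩ := shortExact_cone_tensor (𝟙 L₁) K
  obtain ⟨z₂, h₂⟩ := shortExact_cone_tensor f K
  have a₁ : ∀ i, IsZero ((CochainComplex.mappingCone (𝟙 L₁) ⊗ K).homology i) := by
    apply hK
    intro i
    rw [← HomologicalComplex.exactAt_iff_isZero_homology]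
    exact (Groth.Agent.Helper5.FlatAcyc.quasiIso_iff_acyclic_cone (𝟙 L₁)).1 inferInstance i
  have a₂ : ∀ i, IsZero ((CochainComplex.mappingCone f ⊗ K).homology i) := by
    apply hK
    intro i
    rw [← HomologicalComplex.exactAt_iff_isZero_homology]
    exact (Groth.Agent.Helper5.FlatAcyc.quasiIso_iff_acyclic_cone f).1 hf i
  let tm := CochainComplex.mappingCone.triangleMap (𝟙 L₁) f (𝟙 L₁) f (by simp)
  let τ : ShortComplex.mk _ _ z₁ ⟶ ShortComplex.mk _ _ z₂ :=
    { τ₁ := f ▷ K
      τ₂ := tm.hom₃ ▷ K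
      τ₃ := (tm.hom₁⟦(1 : ℤ)⟧') ▷ K
      comm₁₂ := by
        have := congrArg (fun g => g ▷ K) tm.comm₂
        simp only [MonoidalCategory.comp_whiskerRight] at this
        exact this.symm
      comm₂₃ := by
        have := congrArg (fun g => g ▷ K) tm.comm₃
        simp only [MonoidalCategory.comp_whiskerRight] at this
        exact this.symm }
  rw [quasiIso_iff]
  intro j
  rw [quasiIsoAt_iff_isIso_homologyMap]
  have hj : (ComplexShape.up ℤ).Rel (j - 1) j := by simp
  have hnat := HomologicalComplex.HomologySequence.δ_naturality τ h₁ h₂ (j - 1) j hj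
  haveI i1 : IsIso (h₁.δ (j - 1) j hj) := isIso_δ_of_acyclic h₁ a₁ (j - 1) j hj
  haveI i2 : IsIso (h₂.δ (j - 1) j hj) := isIso_δ_of_acyclic h₂ a₂ (j - 1) j hj
  haveI i3 : IsIso (HomologicalComplex.homologyMap τ.τ₃ (j - 1)) := by
    have : τ.τ₃ = 𝟙 _ := by
      show ((shiftFunctor (DRing.Cx R) (1 : ℤ)).map (𝟙 L₁)) ▷ K = 𝟙 _
      rw [CategoryTheory.Functor.map_id]
      exact MonoidalCategory.id_whiskerRight _ _
    rw [this]
    erw [HomologicalComplex.homologyMap_id]
    exact IsIso.id _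
  have : HomologicalComplex.homologyMap (f ▷ K) j =
      inv (h₁.δ (j - 1) j hj) ≫ HomologicalComplex.homologyMap τ.τ₃ (j - 1) ≫
        h₂.δ (j - 1) j hj := by
    rw [← hnat, IsIso.inv_hom_id_assoc]
    rfl
  rw [this]
  exact IsIso.comp_isIso' (@IsIso.inv_isIso _ _ _ _ _ i1) (IsIso.comp_isIso' i3 i2)

end Groth.Agent.Lib.Helper5.KFlat
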