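import Mathlib
import Groth.Agent.Lib.Helper5.KFlat.Qis
import Groth.Agent.Lib.Helper5.KProj.Colim

set_option autoImplicit false
set_option linter.unusedSectionVars false
set_option linter.unusedVariables false
set_option linter.style.haveILetI false
universe v u
open CategoryTheory CategoryTheory.Limits MonoidalCategory ZeroObject

namespace Groth.Agent.Lib.Helper5.KFlat

open Groth.Agent.Lib.Helper5.Misc.KFlatGen Groth.Agent.Lib.Helper5.KProj

section Gen

variable {A : Type*} [Category A] [HasZeroMorphisms A] {I : Type*}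

lemma isColimit_of_isIso_of_isZero {G : Discrete I ⥤ A} (c : Cocone G) (i₀ : I)
    (h : IsIso (c.ι.app ⟨i₀⟩)) (hz : ∀ i, i ≠ i₀ → IsZero (G.obj ⟨i⟩)) : Nonempty (IsColimit c) := by
  classical
  refine ⟨{ desc := fun s => inv (c.ι.app ⟨i₀⟩) ≫ s.ι.app ⟨i₀⟩
            fac := fun s j => ?_
            uniq := fun s m hm => ?_ }⟩
  · obtain ⟨i⟩ := j
    by_cases hi : i = i₀
    · subst hi
      simp
    · exact (hz i hi).eq_of_src _ _
  · rw [← hm ⟨i₀⟩]
    simp

end Gen

variable {R : Type u} [CommRing R]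

section ZeroDiff

variable (F : DRing.Cx R) (hd : ∀ i j, F.d i j = 0)

/-- the piece of `F` in degree `n` -/
noncomputable def piece (n : ℤ) : DRing.Cx R :=
  (HomologicalComplex.single (ModuleCat.{u} R) (ComplexShape.up ℤ) n).obj (F.X n)

/-- the inclusion of a piece -/
noncomputable def ιpiece (n : ℤ) : piece F n ⟶ F :=
  HomologicalComplex.mkHomFromSingle (𝟙 (F.X n)) (fun k _ => by rw [hd, comp_zero])

/-- the cofan of pieces -/
noncomputable def pieceCofan : Cofan (piece F) := Cofan.mk F (ιpiece F hd)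

lemma pieceCofan_isColimit : Nonempty (IsColimit (pieceCofan F hd)) := by
  have : ∀ m : ℤ, Nonempty (IsColimit ((HomologicalComplex.eval (ModuleCat.{u} R)
      (ComplexShape.up ℤ) m).mapCocone (pieceCofan F hd))) := by
    intro m
    refine isColimit_of_isIso_of_isZero _ m ?_ ?_
    · show IsIso ((ιpiece F hd m).f m)
      dsimp only [ιpiece]
      rw [HomologicalComplex.mkHomFromSingle_f, Category.comp_id]
      infer_instance
    · intro n hn
      exact HomologicalComplex.isZero_single_obj_X (ComplexShape.up ℤ) n (F.X n) m (Ne.symm hn)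
  exact ⟨HomologicalComplex.isColimitOfEval _ _ (fun m => (this m).some)⟩

include hd in
theorem isKFlat_of_d_eq_zero (hflat : ∀ n, Module.Flat R (F.X n)) : DRing.IsKFlat R F := by
  refine isKFlat_of_isColimit (pieceCofan F hd) (pieceCofan_isColimit F hd).some ?_
  rintro ⟨n⟩
  refine isKFlat_of_concentrated _ n
    (fun m hm => HomologicalComplex.isZero_single_obj_X (ComplexShape.up ℤ) n (F.X n) m hm) ?_
  exact flat_of_iso (HomologicalComplex.singleObjXSelf (ComplexShape.up ℤ) n (F.X n)).symm (hflat n)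

end ZeroDiff

section Colim

variable (D : ℕ ⥤ DRing.Cx R) (c : Cocone D) (hc : IsColimit c)

include hc in
theorem flat_of_colimit (n : ℤ) (h : ∀ k, Module.Flat R ((D.obj k).X n)) :
    Module.Flat R (c.pt.X n) := by
  apply Module.Flat.of_forall_isTrivialRelation
  intro l f x hfx
  choose k₀ y₀ hy₀ using fun i => exists_rep D c hc n (x i)
  obtain ⟨k, hk⟩ : ∃ k, ∀ i, k₀ i ≤ k :=
    ⟨Finset.univ.sup k₀, fun i => Finset.le_sup (Finset.mem_univ i)⟩
  let y : Fin l → (D.obj k).X n := fun i => ((D.map (homOfLE (hk i))).f n).hom (y₀ i)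
  have hy : ∀ i, ((cι D c k).f n).hom (y i) = x i :=
    fun i => (ι_map_apply D c n (hk i) (y₀ i)).trans (hy₀ i)
  have h0 : ((cι D c k).f n).hom (∑ i, f i • y i) = 0 := by
    rw [map_sum]
    simp_rw [map_smul, hy]
    exact hfx
  obtain ⟨k', hkk', hz⟩ := exists_map_eq_zero D c hc n k _ h0
  let y' : Fin l → (D.obj k').X n := fun i => ((D.map (homOfLE hkk')).f n).hom (y i)
  have hy' : ∀ i, ((cι D c k').f n).hom (y' i) = x i :=
    fun i => (ι_map_apply D c n hkk' (y i)).trans (hy i)
  have hrel : ∑ i, f i • y' i = 0 := by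
    rw [← hz, map_sum]
    simp_rw [map_smul]
    rfl
  haveI := h k'
  obtain ⟨κ, a, z, hxz, hfa⟩ := Module.Flat.isTrivialRelation_of_sum_smul_eq_zero hrel
  refine ⟨κ, a, fun j => ((cι D c k').f n).hom (z j), fun i => ?_, hfa⟩
  rw [← hy' i, hxz i, map_sum]
  simp_rw [map_smul]

end Colim

section Res

variable {X P : DRing.Cx R} (f : P ⟶ X)

theorem flat_cellCx (n : ℤ) : Module.Flat R ((cellCx f).X n) := by
  show Module.Flat R (Cell f n →₀ R)
  infer_instance

theorem isKFlat_cellCx : DRing.IsKFlat R (cellCx f) :=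
  isKFlat_of_d_eq_zero _ (fun i j => cellCx_d f i j) (flat_cellCx f)

variable (X)

theorem isKFlat_stage (k : ℕ) :
    DRing.IsKFlat R (stage X k).P ∧ ∀ n, Module.Flat R ((stage X k).P.X n) := by
  induction k with
  | zero =>
    have hz0 : IsZero (stage X 0).P := by
      show IsZero (0 : CochainComplex (ModuleCat.{u} R) ℤ)
      exact isZero_zero _
    have hz : ∀ n : ℤ, IsZero ((stage X 0).P.X n) := fun n =>
      Functor.map_isZero (HomologicalComplex.eval _ _ n) hz0
    exact ⟨isKFlat_of_bounded_above _ 0 (fun i _ => hz i) (fun n => flat_of_isZero (hz n)),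
      fun n => flat_of_isZero (hz n)⟩
  | succ k ih =>
    refine ⟨(isKFlat_cone_two_of_three (cellMap (stage X k).f)).1 (isKFlat_cellCx _) ih.1, ?_⟩
    exact Groth.Agent.Helper5.FlatAcyc.flat_cone (cellMap (stage X k).f) (flat_cellCx _) ih.2

theorem isKFlat_res : DRing.IsKFlat R (res X) :=
  isKFlat_of_isColimit (colimit.cocone (stageD X)) (colimit.isColimit _)
    (fun k => (isKFlat_stage X k).1)

theorem flat_res (n : ℤ) : Module.Flat R ((res X).X n) :=
  flat_of_colimit (stageD X) (colimit.cocone (stageD X)) (colimit.isColimit _) n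
    (fun k => (isKFlat_stage X k).2 n)

end Res

section Surj

open CochainComplex HomComplex mappingCone Groth.Agent.Helper5.ConeEl

variable {X P : DRing.Cx R} (f : P ⟶ X)

theorem exists_nextMap_eq (n : ℤ) (c : P.X n) (x : X.X (n - 1))
    (hc : (P.d n (n + 1)).hom c = 0) (hx : (X.d (n - 1) n).hom x = (f.f n).hom c) :
    ∃ w : (nextCx f).X (n - 1), ((nextMap f).f (n - 1)).hom w = x := by
  let s : Cell f n := ⟨(c, x), hc, hx⟩
  refine ⟨inlL (cellMap f) (n - 1) n (by omega) (gen f s), ?_⟩
  erw [desc_apply (cellMap f) (cellCochain f) f (δ_cellCochain f) (n - 1) n (by omega)]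
  rw [fstL_inlL, sndL_inlL, map_zero, add_zero, cellCochain_single]

theorem exists_cycle_nextMap_eq' (i k : ℤ) (hk : i + 1 = k) (z : X.X i)
    (hz : (X.d i k).hom z = 0) :
    ∃ y : (nextCx f).X i, ((nextCx f).d i k).hom y = 0 ∧ ((nextMap f).f i).hom y = z := by
  obtain ⟨j, rfl⟩ : ∃ j, i = j - 1 := ⟨i + 1, by omega⟩
  obtain rfl : k = j := by omega
  exact exists_cycle_nextMap_eq f _ z hz

variable (X)

theorem stage_two_surjective (m : ℤ) (x : X.X m) :
    ∃ w : (stage X 2).P.X m, ((stage X 2).f.f m).hom w = x := by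
  obtain ⟨n, rfl⟩ : ∃ n, m = n - 1 := ⟨m + 1, by omega⟩
  have hdx : (X.d n (n + 1)).hom ((X.d (n - 1) n).hom x) = 0 := by
    rw [← LinearMap.comp_apply, ← ModuleCat.hom_comp, X.d_comp_d]
    rfl
  obtain ⟨y, hy1, hy2⟩ := exists_cycle_nextMap_eq' (stage X 0).f n (n + 1) rfl _ hdx
  exact exists_nextMap_eq (stage X 1).f n y x hy1 hy2.symm

theorem resMap_surjective (m : ℤ) : Function.Surjective ((resMap X).f m).hom := by
  intro x
  obtain ⟨w, hw⟩ := stage_two_surjective X m x
  refine ⟨((cι (stageD X) (colimit.cocone (stageD X)) 2).f m).hom w, ?_⟩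
  rw [← hw, ← cι_resMap X 2]
  rfl

end Surj

end Groth.Agent.Lib.Helper5.KFlat
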