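import Mathlib
import Groth.Prelude.Def_DTen
import Groth.Agent.Lib.Helper5.KFlat.Res

set_option autoImplicit false
set_option linter.unusedSectionVars false
set_option linter.unusedVariables false
set_option linter.style.haveILetI false
universe v u
open CategoryTheory CategoryTheory.Limits MonoidalCategory

namespace Groth.Agent.Lib.Helper5.KFlat

open Groth.Agent.Lib.Helper5.Misc.KFlatGen Groth.Agent.Lib.Helper5.KProj

variable {R : Type u} [CommRing R]

theorem acyc_tensor_left {K : DRing.Cx R} (hK : DRing.IsKFlat R K) (M : DRing.Cx R)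
    (hM : ∀ i, IsZero (M.homology i)) (i : ℤ) : IsZero ((K ⊗ M).homology i) :=
  acyclic_of_iso (DTen.braidCx M K) (hK M hM) i

theorem whiskerLeft_eq_braid {K L₁ L₂ : DRing.Cx R} (α : L₁ ⟶ L₂) :
    K ◁ α = (DTen.braidCx K L₁).hom ≫ (α ▷ K) ≫ (DTen.braidCx K L₂).inv := by
  have h := DTen.braidCx_naturality (𝟙 K) α
  rw [MonoidalCategory.id_tensorHom, MonoidalCategory.tensorHom_id] at h
  rw [← Category.assoc, ← h, Category.assoc, Iso.hom_inv_id, Category.comp_id]

theorem quasiIso_whiskerLeft {K : DRing.Cx R} (hK : DRing.IsKFlat R K) {L₁ L₂ : DRing.Cx R}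
    (α : L₁ ⟶ L₂) (hα : QuasiIso α) : QuasiIso (K ◁ α) := by
  rw [whiskerLeft_eq_braid]
  haveI := quasiIso_whiskerRight hK α hα
  infer_instance

/-- a quasi-isomorphism between K-flat complexes stays one after tensoring with anything -/
theorem quasiIso_whiskerLeft_of_isKFlat {P Q : DRing.Cx R} (α : P ⟶ Q)
    (hP : DRing.IsKFlat R P) (hQ : DRing.IsKFlat R Q) (hα : QuasiIso α) (L : DRing.Cx R) :
    QuasiIso (L ◁ α) := by
  haveI h1 : QuasiIso (resMap L ▷ P) := quasiIso_whiskerRight hP _ inferInstance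
  haveI h2 : QuasiIso (resMap L ▷ Q) := quasiIso_whiskerRight hQ _ inferInstance
  haveI h3 : QuasiIso (res L ◁ α) := quasiIso_whiskerLeft (isKFlat_res L) α hα
  have e : (resMap L ▷ P) ≫ (L ◁ α) = (res L ◁ α) ≫ (resMap L ▷ Q) :=
    (MonoidalCategory.whisker_exchange _ _).symm
  haveI : QuasiIso ((resMap L ▷ P) ≫ (L ◁ α)) := by
    rw [e]
    infer_instance
  exact quasiIso_of_comp_left (resMap L ▷ P) (L ◁ α)

theorem quasiIso_whiskerRight_of_isKFlat {P Q : DRing.Cx R} (α : P ⟶ Q)
    (hP : DRing.IsKFlat R P) (hQ : DRing.IsKFlat R Q) (hα : QuasiIso α) (L : DRing.Cx R) :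
    QuasiIso (α ▷ L) := by
  have h : α ▷ L = (DTen.braidCx P L).hom ≫ (L ◁ α) ≫ (DTen.braidCx Q L).inv := by
    have h := DTen.braidCx_naturality α (𝟙 L)
    rw [MonoidalCategory.id_tensorHom, MonoidalCategory.tensorHom_id] at h
    rw [← Category.assoc, ← h, Category.assoc, Iso.hom_inv_id, Category.comp_id]
  rw [h]
  haveI := quasiIso_whiskerLeft_of_isKFlat α hP hQ hα L
  infer_instance

end Groth.Agent.Lib.Helper5.KFlat
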