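import Mathlib
import Groth.Agent.Lib.Helper5.KFlat.Symm

set_option autoImplicit false
set_option linter.unusedSectionVars false
set_option linter.unusedVariables false
set_option linter.style.haveILetI false
universe w v u
open CategoryTheory CategoryTheory.Limits MonoidalCategory

namespace Groth.Agent.Lib.Helper5.KFlat

open Groth.Agent.Lib.Helper5.Misc.KFlatGen Groth.Agent.Lib.Helper5.KProj

attribute [local instance] HasDerivedCategory.standard

section ConeMap

variable {C : Type*} [Category C] [Abelian C] [HasDerivedCategory.{w} C]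
  {K₁ L₁ K₂ L₂ : CochainComplex C ℤ} (φ₁ : K₁ ⟶ L₁) (φ₂ : K₂ ⟶ L₂)
  (a : K₁ ⟶ K₂) (b : L₁ ⟶ L₂) (comm : φ₁ ≫ b = a ≫ φ₂)

/-- the map of mapping cones induced by quasi-isomorphisms is a quasi-isomorphism -/
theorem quasiIso_coneMap (ha : QuasiIso a) (hb : QuasiIso b) :
    QuasiIso (CochainComplex.mappingCone.map φ₁ φ₂ a b comm) := by
  rw [← DerivedCategory.isIso_Q_map_iff_quasiIso]
  let tm := DerivedCategory.Q.mapTriangle.map
    (CochainComplex.mappingCone.triangleMap φ₁ φ₂ a b comm)
  have h1 : IsIso tm.hom₁ := by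
    show IsIso (DerivedCategory.Q.map a)
    rw [DerivedCategory.isIso_Q_map_iff_quasiIso]
    exact ha
  have h2 : IsIso tm.hom₂ := by
    show IsIso (DerivedCategory.Q.map b)
    rw [DerivedCategory.isIso_Q_map_iff_quasiIso]
    exact hb
  exact Pretriangulated.isIso₃_of_isIso₁₂ tm
    (DerivedCategory.mappingCone_triangle_distinguished φ₁)
    (DerivedCategory.mappingCone_triangle_distinguished φ₂) h1 h2

end ConeMap

variable {R : Type u} [CommRing R]

theorem flat_biprod (K P : DRing.Cx R) (n : ℤ) (hK : Module.Flat R (K.X n))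
    (hP : Module.Flat R (P.X n)) : Module.Flat R ((K ⊞ P).X n) := by
  let e : (K ⊞ P).X n ≅ ModuleCat.of R (K.X n × P.X n) :=
    (HomologicalComplex.eval (ModuleCat.{u} R) (ComplexShape.up ℤ) n).mapBiprod K P ≪≫
      ModuleCat.biprodIsoProd _ _
  have : Module.Flat R (K.X n × P.X n) := Groth.Agent.Helper5.FlatAcyc.flat_prod _ _
  exact Module.Flat.of_linearEquiv e.toLinearEquiv

theorem isKFlat_biprod (K P : DRing.Cx R) (hK : DRing.IsKFlat R K) (hP : DRing.IsKFlat R P)
    (hPf : ∀ n, Module.Flat R (P.X n)) : DRing.IsKFlat R (K ⊞ P) :=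
  (isKFlat_ses _ (ShortComplex.Splitting.ofHasBinaryBiproduct K P).shortExact hPf).2.1 hK hP

/-- factorisation of a map out of a K-flat complex through a K-flat resolution of the target -/
theorem exists_factor (K L : DRing.Cx R) (a : K ⟶ L) (hK : DRing.IsKFlat R K) :
    ∃ (N : DRing.Cx R) (b : K ⟶ N) (c : N ⟶ L), DRing.IsKFlat R N ∧
      ((∀ n, Module.Flat R (K.X n)) → ∀ n, Module.Flat R (N.X n)) ∧ QuasiIso c ∧ a = b ≫ c := by
  let P := res L
  let p : P ⟶ L := resMap L
  let g : K ⊞ P ⟶ L := biprod.desc a p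
  haveI : Epi g := by
    haveI : ∀ i, Epi (g.f i) := by
      intro i
      have h1 : (biprod.inr : P ⟶ K ⊞ P).f i ≫ g.f i = p.f i := by
        rw [← HomologicalComplex.comp_f, biprod.inr_desc]
      haveI : Epi (p.f i) := (ModuleCat.epi_iff_surjective _).2 (resMap_surjective L i)
      exact epi_of_epi_fac h1
    exact HomologicalComplex.epi_of_epi_f g (fun i => inferInstance)
  let S : ShortComplex (DRing.Cx R) := ShortComplex.mk (kernel.ι g) g (kernel.condition g)
  have hS : S.ShortExact :=
    { exact := ShortComplex.exact_kernel g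
      mono_f := by dsimp [S]; infer_instance
      epi_g := by dsimp [S]; infer_instance }
  let Z := kernel g
  let Z' := res Z
  let q : Z' ⟶ Z := resMap Z
  let φ : Z' ⟶ K ⊞ P := q ≫ kernel.ι g
  let N := CochainComplex.mappingCone φ
  let m : N ⟶ CochainComplex.mappingCone S.f :=
    CochainComplex.mappingCone.map φ S.f q (𝟙 _) (by simp [φ, S])
  have hm : QuasiIso m := quasiIso_coneMap _ _ _ _ _ inferInstance inferInstance
  have hd : QuasiIso (CochainComplex.mappingCone.descShortComplex S) :=
    CochainComplex.mappingCone.quasiIso_descShortComplex hS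
  refine ⟨N, biprod.inl ≫ CochainComplex.mappingCone.inr φ,
    m ≫ CochainComplex.mappingCone.descShortComplex S, ?_, ?_, ?_, ?_⟩
  · exact (isKFlat_cone_two_of_three φ).1 (isKFlat_res Z)
      (isKFlat_biprod K P hK (isKFlat_res L) (flat_res L))
  · intro hKf n
    exact Groth.Agent.Helper5.FlatAcyc.flat_cone φ (flat_res Z)
      (fun i => flat_biprod K P i (hKf i) (flat_res L i)) n
  · infer_instance
  · have h1 : CochainComplex.mappingCone.inr φ ≫ m = CochainComplex.mappingCone.inr S.f := by
      have := (CochainComplex.mappingCone.triangleMap φ S.f q (𝟙 _) (by simp [φ, S])).comm₂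
      exact this.trans (Category.id_comp _)
    rw [Category.assoc, reassoc_of% h1, CochainComplex.mappingCone.inr_descShortComplex]
    simp [S, g]

end Groth.Agent.Lib.Helper5.KFlat
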