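import Mathlib
import Groth.Agent.Lib.Helper5.DTenLib.ExtQis
import Groth.Agent.Lib.Helper5.KFlat.Bdd
import Groth.Agent.Lib.Helper5.KFlat.Res
import Groth.Agent.Lib.Helper5.KProj.LBC

set_option autoImplicit false
set_option linter.unusedSectionVars false
set_option linter.unusedVariables false
universe u
open CategoryTheory CategoryTheory.Limits MonoidalCategory
attribute [local instance] HasDerivedCategory.standard

namespace Groth.Agent.Lib.Helper5.KFlat

open Groth.Agent.Lib.Helper5.KProj Groth.Agent.Lib.Helper5.DTenLib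

variable {A B : Type u} [CommRing A] [CommRing B] (φ : A →+* B)

/-- the comparison `LBC (Q K) ⟶ Q (K ⊗ B)` is an isomorphism for K-flat `K` -/
theorem isIso_lbcCmp_of_isKFlat [DRing.HasLBaseChange φ] (K : DRing.Cx A)
    (hK : DRing.IsKFlat A K) : IsIso ((lbcCmp φ).app K) := by
  have hnat := (lbcCmp φ).naturality (resMap K)
  have i1 : IsIso ((DerivedCategory.Q ⋙ DRing.LBaseChange φ).map (resMap K)) := by
    dsimp
    infer_instance
  have i2 : IsIso ((lbcCmp φ).app (res K)) := inferInstance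
  have i3 : IsIso ((bcCx φ ⋙ DerivedCategory.Q).map (resMap K)) := by
    dsimp
    rw [DerivedCategory.isIso_Q_map_iff_quasiIso]
    exact quasiIso_extCx_map φ (resMap K) (isKFlat_res K) hK inferInstance
  have i4 : IsIso ((lbcCmp φ).app (res K) ≫ (bcCx φ ⋙ DerivedCategory.Q).map (resMap K)) :=
    IsIso.comp_isIso' i2 i3
  exact IsIso.of_isIso_fac_left hnat

/-- derived base change of a K-flat complex -/
noncomputable def lbcIsoFlat [DRing.HasLBaseChange φ] (K : DRing.Cx A)
    (hK : DRing.IsKFlat A K) :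
    (DRing.LBaseChange φ).obj (DRing.toD K) ≅ DRing.toD ((bcCx φ).obj K) :=
  haveI := isIso_lbcCmp_of_isKFlat φ K hK
  asIso ((lbcCmp φ).app K)

open TensorProduct in
theorem flat_extendScalars (M : ModuleCat.{u} A) [Module.Flat A M] :
    Module.Flat B ((ModuleCat.extendScalars.{u, u, u} φ).obj M) := by
  letI := φ.toAlgebra
  have h1 : Module.Flat B (B ⊗[A] M) := inferInstance
  have e := Groth.Agent.Helper5.FlatBC.eqv (R := A) B M
  have h3 : Module.Flat B (Groth.Agent.Helper5.FlatBC.N' (R := A) B M) :=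
    Module.Flat.of_linearEquiv e.symm
  exact h3

theorem termwiseFlat_bcCx (E : DRing.Cx A) (h : DRing.TermwiseFlat E) :
    DRing.TermwiseFlat ((bcCx φ).obj E) := fun i => by
  have := h i
  exact flat_extendScalars φ (E.X i)

/-- S6948 -/
theorem hasTorAmplitudeIn_LBaseChange [DRing.HasLBaseChange φ] (K : Dual.D A) (a b : ℤ)
    (hK : DRing.HasTorAmplitudeIn A a b K) :
    DRing.HasTorAmplitudeIn B a b ((DRing.LBaseChange φ).obj K) := by
  obtain ⟨E, h1, h2, ⟨e⟩⟩ := hK
  have hE : DRing.IsKFlat A E :=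
    isKFlat_of_bounded_above E b (fun i hi => h1 i (Or.inr hi)) h2
  exact ⟨(bcCx φ).obj E, vanishesOutside_bcCx φ E a b h1, termwiseFlat_bcCx φ E h2,
    ⟨(lbcIsoFlat φ E hE).symm ≪≫ (DRing.LBaseChange φ).mapIso e⟩⟩

end Groth.Agent.Lib.Helper5.KFlat
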