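import Mathlib
import Groth.Agent.Lib.Helper5.KFlat.Bdd

set_option autoImplicit false
set_option linter.unusedSectionVars false
set_option linter.unusedVariables false
universe u
open CategoryTheory CategoryTheory.Limits MonoidalCategory

namespace Groth.Agent.Lib.Helper5.KFlat

open Groth.Agent.Lib.Helper5.Misc.KFlatGen

variable {R : Type u} [CommRing R]

/-- tensoring preserves degreewise split short exact sequences -/
theorem shortExact_tensor_split (S : ShortComplex (DRing.Cx R))
    (σ : ∀ q : ℤ, (S.map (HomologicalComplex.eval (ModuleCat.{u} R) (ComplexShape.up ℤ) q)).Splitting)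
    (F : DRing.Cx R) :
    ∃ (z : (F ◁ S.f) ≫ (F ◁ S.g) = 0), (ShortComplex.mk _ _ z).ShortExact := by
  refine shortExact_tot (T R) F S (fun p q => ?_)
  exact ((σ q).map ((T R).obj (F.X p))).shortExact

/-- degreewise split short exact sequences: two out of three for K-flatness -/
theorem isKFlat_ses_split (S : ShortComplex (DRing.Cx R))
    (σ : ∀ q : ℤ, (S.map (HomologicalComplex.eval (ModuleCat.{u} R) (ComplexShape.up ℤ) q)).Splitting) :
    (DRing.IsKFlat R S.X₁ → DRing.IsKFlat R S.X₂ → DRing.IsKFlat R S.X₃) ∧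
    (DRing.IsKFlat R S.X₁ → DRing.IsKFlat R S.X₃ → DRing.IsKFlat R S.X₂) ∧
    (DRing.IsKFlat R S.X₂ → DRing.IsKFlat R S.X₃ → DRing.IsKFlat R S.X₁) := by
  refine ⟨fun k1 k2 F hF i => ?_, fun k1 k3 F hF i => ?_, fun k2 k3 F hF i => ?_⟩
  · obtain ⟨z, hz⟩ := shortExact_tensor_split S σ F
    exact acyclic_X₃ hz (k1 F hF) (k2 F hF) i
  · obtain ⟨z, hz⟩ := shortExact_tensor_split S σ F
    exact acyclic_X₂ hz (k1 F hF) (k3 F hF) i
  · obtain ⟨z, hz⟩ := shortExact_tensor_split S σ F
    exact acyclic_X₁ hz (k2 F hF) (k3 F hF) i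

/-- a retract of a K-flat complex is K-flat -/
theorem isKFlat_of_retract {K K' : DRing.Cx R} (i : K' ⟶ K) (r : K ⟶ K') (h : i ≫ r = 𝟙 K')
    (hK : DRing.IsKFlat R K) : DRing.IsKFlat R K' := by
  intro F hF n
  have hz := hK F hF n
  rw [IsZero.iff_id_eq_zero]
  have e : 𝟙 ((F ⊗ K').homology n) =
      HomologicalComplex.homologyMap (F ◁ i) n ≫ HomologicalComplex.homologyMap (F ◁ r) n := by
    rw [← HomologicalComplex.homologyMap_comp, ← MonoidalCategory.whiskerLeft_comp, h,
      MonoidalCategory.whiskerLeft_id, HomologicalComplex.homologyMap_id]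
  rw [e, hz.eq_of_tgt (HomologicalComplex.homologyMap (F ◁ i) n) 0, zero_comp]

theorem isKFlat_of_isZero_X (K : DRing.Cx R) (hK : ∀ n : ℤ, IsZero (K.X n)) : DRing.IsKFlat R K :=
  isKFlat_of_bounded_above K 0 (fun i _ => hK i) (fun n => flat_of_isZero (hK n))

end Groth.Agent.Lib.Helper5.KFlat
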